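import Groth.Agent.DelIll.K911.TwSec
import Groth.Agent.DelIll.K912.AsmFam

/-!
# Frames for invertible modules
-/

set_option autoImplicit false
universe u
open CategoryTheory CategoryTheory.Limits AlgebraicGeometry Opposite TopologicalSpace

namespace K911.TwFrames

open Groth.Agent Groth.Agent.Dix.IdealModCartier
open Groth.Agent.Sga67.Sec Groth.Agent.Sga67.LocBasis Groth.Agent.Sga67.ExtSheaf
open Groth.Agent.Fdesc.LocGen (IsGen tmul ores)
open K912.Asm K912.Frame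

attribute [local instance] algV modS

variable {p : ℕ} {k : Type u} [Field k] {X : Scheme.{u}} [X.Over (Spec (CommRingCat.of k))]
  {E : X.Modules} {n : ℕ}

theorem isLocBasis_of_isGen {M : X.Modules} {U : X.Opens} {s : Γ(M, U)} (h : IsGen s) :
    IsLocBasis (fun _ : Fin 1 => (show Sec M U from s)) := by
  intro V hV
  have h1 : (comb (fun _ : Fin 1 => (show Sec M U from s)) hV : (Fin 1 → Γ(X, V)) → Sec M V) =
      (fun a : Γ(X, V) => a • Groth.Agent.Fdesc.LocGen.res M hV s) ∘ (fun a => a 0) := by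
    funext a
    exact (comb_apply _ _ _).trans (Fin.sum_univ_one _)
  change Function.Bijective (comb (fun _ : Fin 1 => (show Sec M U from s)) hV : (Fin 1 → Γ(X, V)) → Sec M V)
  rw [h1]
  exact (h V hV).comp (Equiv.funUnique (Fin 1) Γ(X, V)).bijective

/-- Coordinates with respect to a generator over `V₀`, multiplied by a unit. -/
theorem exists_coord {M : X.Modules} {U V : X.Opens} (h : V ≤ U) {e : Γ(M, U)} (he : IsGen e) (u : (Γ(X, V))ˣ) :
    ∃ μ : Sec M V ≃ₗ[Γ(X, V)] (Fin 1 → Γ(X, V)),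
      ∀ a : Γ(X, V), μ (a • res M h (show Sec M U from e)) = fun _ => a * u := by
  let f : Γ(X, V) ≃ₗ[Γ(X, V)] Sec M V :=
    LinearEquiv.ofBijective (LinearMap.toSpanSingleton _ _ (res M h (show Sec M U from e))) (he V h)
  let g : Γ(X, V) ≃ₗ[Γ(X, V)] Γ(X, V) := LinearEquiv.smulOfUnit u
  refine ⟨f.symm ≪≫ₗ g ≪≫ₗ (LinearEquiv.funUnique (Fin 1) Γ(X, V) Γ(X, V)).symm, fun a => ?_⟩
  have h1 : f.symm (a • res M h (show Sec M U from e)) = a := by
    rw [LinearEquiv.symm_apply_eq]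
    rfl
  rw [LinearEquiv.trans_apply, LinearEquiv.trans_apply, h1]
  funext j
  change (u : Γ(X, V)) * a = a * u
  rw [mul_comm]

section

variable (G : Geo p k X E n) {M M' : X.Modules} {I : X.IdealSheafData}
  (θ : CohB1.tensorMod M' (ClSub.idealMod I) ≅ CohB1.tensorPow M p)
  (x : ∀ i, Γ(X, (G.U i).1)) (hx : ∀ i, GenOn I (x i)) (P : Pole G)
  (hP : ∀ i, (P.x i : G.R) = ores (G.le i) (x i))
  (hM : ∀ i, ∃ e : Γ(M, (G.U i).1), IsGen e) (hM' : ∀ i, ∃ e : Γ(M', (G.U i).1), IsGen e)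

include θ hx hP hM hM' in
/-- **Frames for invertible modules.** -/
theorem exists_frames : ∃ (T : Frames G (Fin 1) M) (T' : Frames G (Fin 1) M'), IsTw P T T' := by
  choose e he using hM
  choose e₀ he₀ using hM'
  choose e' n he' hn hθ using fun i => TwSec.exists_gen θ (he i) (hx i) (he₀ i)
  obtain ⟨i₀⟩ := G.nonempty_ι
  obtain ⟨μ, hμ⟩ := exists_coord (G.le i₀) (he i₀) 1
  obtain ⟨μ', hμ'⟩ := exists_coord (G.le i₀) (he' i₀) (P.x i₀)⁻¹
  refine ⟨⟨fun i _ => e i, fun i => isLocBasis_of_isGen (he i), μ⟩,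
    ⟨fun i _ => e' i, fun i => isLocBasis_of_isGen (he' i), μ'⟩, fun i j c => ?_⟩
  obtain ⟨a, ha⟩ := ((he i₀).res (G.le i₀)).exists_eq (Groth.Agent.Fdesc.LocGen.res M (G.le i) (e i))
  obtain ⟨b, hb⟩ := ((he' i₀).res (G.le i₀)).exists_eq (Groth.Agent.Fdesc.LocGen.res M' (G.le i) (e' i))
  change μ' (res M' (G.le i) (e' i)) j = (P.x i)⁻¹.1 * (μ (res M (G.le i) (e i)) j) ^ p
  have h1 : μ (res M (G.le i) (e i)) j = a := by
    refine (congrFun (congrArg μ ha) j).trans ((congrFun (hμ a) j).trans ?_)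
    rw [Units.val_one, mul_one]
  have h2 : μ' (res M' (G.le i) (e' i)) j = b * (P.x i₀)⁻¹.1 :=
    (congrFun (congrArg μ' hb) j).trans (congrFun (hμ' b) j)
  rw [h1, h2]
  exact TwSec.coef_eq θ (G.le i) (G.le i₀) (he i₀) (hθ i) (hθ i₀) ha hb
    (by rw [hn]; exact (hP i).symm) (by rw [hn]; exact (hP i₀).symm)

end

section

variable (G : Geo p k X E n) {M M' : X.Modules} {I J : X.IdealSheafData}
  (θ : CohB1.tensorMod M' (ClSub.idealMod I) ≅ CohB1.tensorPow M p)
  (x : ∀ i, Γ(X, (G.U i).1)) (hx : ∀ i, GenOn I (x i)) (y : ∀ i, Γ(X, (G.U i).1)) (hy : ∀ i, GenOn J (y i))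
  (P P'' : Pole G)
  (hP : ∀ i, (P.x i : G.R) = ores (G.le i) (x i))
  (hP'' : ∀ i, (P.x i : G.R) = P''.x i * ores (G.le i) (y i))
  (hM : ∀ i, ∃ e : Γ(M, (G.U i).1), IsGen e) (hM' : ∀ i, ∃ e : Γ(M', (G.U i).1), IsGen e)

include θ hx hP hM hM' hy hP'' in
/-- **Frames for invertible modules and a subtwist.** -/
theorem exists_frames₂ : ∃ (T : Frames G (Fin 1) M) (T' : Frames G (Fin 1) M')
    (T'' : Frames G (Fin 1) (CohB1.tensorMod M' (ClSub.idealMod J))), IsTw P T T' ∧ IsTw P'' T T'' ∧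
    ∀ m, T'.μ (appS (LogNCD.inclTwist M' J) G.V₀.1 m) = T''.μ m := by
  choose e he using hM
  choose e₀ he₀ using hM'
  choose e' n he' hn hθ using fun i => TwSec.exists_gen θ (he i) (hx i) (he₀ i)
  obtain ⟨i₀⟩ := G.nonempty_ι
  obtain ⟨μ, hμ⟩ := exists_coord (G.le i₀) (he i₀) 1
  obtain ⟨μ', hμ'⟩ := exists_coord (G.le i₀) (he' i₀) (P.x i₀)⁻¹
  have hyu : ∀ i, IsUnit (ores (G.le i) (y i) : Γ(X, G.V₀.1)) := fun i => by
    have h1 : IsUnit ((P''.x i : G.R) * ores (G.le i) (y i)) := (hP'' i) ▸ (P.x i).isUnit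
    exact isUnit_of_mul_isUnit_right h1
  -- sections of the ideal of `J`
  have hny : ∀ i, ∃ s : Γ(ClSub.idealMod J, (G.U i).1), val J s = y i := fun i => exists_val_eq J (G.U i) (by
    have := (hy i (G.U i) le_rfl).2
    rw [Groth.Agent.Fdesc.LocGen.ores_refl] at this
    rw [this]; exact Ideal.mem_span_singleton_self _)
  choose ny hny using hny
  have gny : ∀ i, IsGen (ny i) := fun i => isGen_of_genOn ((hny i).symm ▸ hy i)
  have gm'' : ∀ i, IsGen (tmul (e' i) (ny i)) := fun i => (he' i).tmul (gny i)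
  -- `α` on the sections over `V₀`
  have hα : ∀ i, appS (LogNCD.inclTwist M' J) G.V₀.1
      (res _ (G.le i) (show Sec (CohB1.tensorMod M' (ClSub.idealMod J)) (G.U i).1 from tmul (e' i) (ny i))) =
      (ores (G.le i) (y i) : Γ(X, G.V₀.1)) • res M' (G.le i) (show Sec M' (G.U i).1 from e' i) := fun i => by
    have h1 := TwSec.inclTwist_tmul M' J (e' i) (ny i)
    have h2 := congrArg (Groth.Agent.Fdesc.LocGen.res M' (G.le i)) h1
    rw [← Groth.Agent.Fdesc.LocGen.app_res, Groth.Agent.Fdesc.LocGen.res_smul, hny] at h2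
    exact h2
  have hbij : Function.Bijective (appS (LogNCD.inclTwist M' J) G.V₀.1) := by
    let f : G.R ≃ₗ[G.R] Sec (CohB1.tensorMod M' (ClSub.idealMod J)) G.V₀.1 :=
      LinearEquiv.ofBijective (LinearMap.toSpanSingleton _ _ _) (gm'' i₀ _ (G.le i₀))
    have h1 : Function.Bijective ((appS (LogNCD.inclTwist M' J) G.V₀.1) ∘ f) := by
      have h2 : ((appS (LogNCD.inclTwist M' J) G.V₀.1) ∘ f) =
          (fun a : G.R => a • res M' (G.le i₀) (show Sec M' (G.U i₀).1 from e' i₀)) ∘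
            (fun a : G.R => a * (hyu i₀).unit) := by
        funext a
        change appS (LogNCD.inclTwist M' J) G.V₀.1 (a • res _ (G.le i₀) _) = _
        rw [map_smul, hα, smul_smul]
        rfl
      rw [h2]
      exact Function.Bijective.comp (he' i₀ _ (G.le i₀)) (Units.mulRight_bijective _)
    exact (Function.Bijective.of_comp_iff _ f.bijective).1 h1
  let μ'' : Sec (CohB1.tensorMod M' (ClSub.idealMod J)) G.V₀.1 ≃ₗ[G.R] (Fin 1 → G.R) :=
    (LinearEquiv.ofBijective (appS (LogNCD.inclTwist M' J) G.V₀.1) hbij) ≪≫ₗ μ'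
  have key : ∀ i j, μ' (res M' (G.le i) (show Sec M' (G.U i).1 from e' i)) j =
      (P.x i)⁻¹.1 * (μ (res M (G.le i) (show Sec M (G.U i).1 from e i)) j) ^ p := by
    intro i j
    obtain ⟨a, ha⟩ := ((he i₀).res (G.le i₀)).exists_eq (Groth.Agent.Fdesc.LocGen.res M (G.le i) (e i))
    obtain ⟨b, hb⟩ := ((he' i₀).res (G.le i₀)).exists_eq (Groth.Agent.Fdesc.LocGen.res M' (G.le i) (e' i))
    have h1 : μ (res M (G.le i) (e i)) j = a := by
      refine (congrFun (congrArg μ ha) j).trans ((congrFun (hμ a) j).trans ?_)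
      rw [Units.val_one, mul_one]
    have h2 : μ' (res M' (G.le i) (e' i)) j = b * (P.x i₀)⁻¹.1 :=
      (congrFun (congrArg μ' hb) j).trans (congrFun (hμ' b) j)
    rw [h1, h2]
    exact TwSec.coef_eq θ (G.le i) (G.le i₀) (he i₀) (hθ i) (hθ i₀) ha hb
      (by rw [hn]; exact (hP i).symm) (by rw [hn]; exact (hP i₀).symm)
  refine ⟨⟨fun i _ => e i, fun i => isLocBasis_of_isGen (he i), μ⟩,
    ⟨fun i _ => e' i, fun i => isLocBasis_of_isGen (he' i), μ'⟩,
    ⟨fun i _ => tmul (e' i) (ny i), fun i => isLocBasis_of_isGen (gm'' i), μ''⟩, fun i j c => key i j,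
    fun i j c => ?_, fun m => rfl⟩
  change μ' (appS (LogNCD.inclTwist M' J) G.V₀.1 (res _ (G.le i) _)) j =
    (P''.x i)⁻¹.1 * (μ (res M (G.le i) (e i)) j) ^ p
  rw [hα, map_smul, Pi.smul_apply, key, smul_eq_mul, ← mul_assoc]
  congr 1
  have h9 : (P''.x i : G.R) * ((ores (G.le i) (y i) : G.R) * (P.x i)⁻¹.1) = 1 := by
    rw [← mul_assoc, ← hP'', Units.mul_inv]
  exact (Units.inv_eq_of_mul_eq_one_right h9).symm

end

end K911.TwFrames
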