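import Groth.Agent.DelIll.K911.GeoCov
import Groth.Agent.DelIll.K911.TwFrames
import Groth.Agent.Vanish.K911.SurjP
import Groth.Agent.Vanish.K911.Ncd
import Groth.Agent.Vanish.K911.One
import Groth.Agent.Vanish.K911.Dual

/-!
# The core statements in characteristic `p`

`coreP`, `coreS` for irreducible proper smooth schemes with a lifting to `W₂`.
-/

set_option autoImplicit false
universe u
open CategoryTheory CategoryTheory.Limits AlgebraicGeometry Opposite TopologicalSpace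

namespace K911.CoreProof

open Groth.Agent Groth.Agent.Dix.IdealModCartier
open Groth.Agent.Sga67.Sec Groth.Agent.Sga67.LocBasis Groth.Agent.Sga67.ExtSheaf
open Groth.Agent.Fdesc.LocGen (IsGen tmul ores)
open K912.Asm K912.Frame K912.LatCmp K912.Alt K911.GeoCov
open K904.GeoUp K904.GeoDt K904.GeoCh K904.GeoCover

attribute [local instance] algV modS

section

variable {X : Scheme.{u}}

theorem genOn_one {U : X.Opens} : GenOn (1 : X.IdealSheafData) (1 : Γ(X, U)) := by
  intro W hW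
  rw [map_one]
  refine ⟨one_mem _, ?_⟩
  rw [Ideal.span_singleton_one]
  rfl

theorem genOn_pow {D : X.IdealSheafData} {U : X.Opens} {a : Γ(X, U)} (h : GenOn D a) (m : ℕ) :
    GenOn (D ^ m) (a ^ m) := by
  induction m with
  | zero => rw [pow_zero, pow_zero]; exact genOn_one
  | succ m ih => rw [pow_succ, pow_succ]; exact ih.mul h

theorem genOn_prod {ι : Type*} (s : Finset ι) {D : ι → X.IdealSheafData} {U : X.Opens} {a : ι → Γ(X, U)}
    (h : ∀ l, GenOn (D l) (a l)) : GenOn (∏ l ∈ s, D l) (∏ l ∈ s, a l) := by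
  classical
  induction s using Finset.induction_on with
  | empty => rw [Finset.prod_empty, Finset.prod_empty]; exact genOn_one
  | insert l s hl ih => rw [Finset.prod_insert hl, Finset.prod_insert hl]; exact (h l).mul ih

theorem exists_nhd {M : X.Modules} (hM : PicF.IsInvertible M) (x : X) :
    ∃ O : X.Opens, x ∈ O ∧ ∀ U ≤ O, ∃ e : Γ(M, U), IsGen e := by
  rw [Groth.Agent.Fdesc.LocGen.isInvertible_iff] at hM
  obtain ⟨O, e, hx, he⟩ := hM x
  exact ⟨O, hx, fun U hU => ⟨_, he.res hU⟩⟩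

end

variable {p : ℕ} [Fact p.Prime] {k : Type u} [Field k] [CharP k p] [PerfectRing k p]
  {X : Scheme.{u}} [X.Over (Spec (CommRingCat.of k))] [IsProper (X ↘ Spec (CommRingCat.of k))]
  [Smooth (X ↘ Spec (CommRingCat.of k))] [IrreducibleSpace X]
  {Xl : Scheme.{u}} {g : Xl ⟶ Spec (CommRingCat.of (FrobAlg.W2 p k))} [Flat g] {i : X ⟶ Xl}
  (hl : IsPullback i (X ↘ Spec (CommRingCat.of k)) g (Spec.map (CommRingCat.ofHom (FrobAlg.res p k))))
  {r : ℕ} {D : Fin r → X.IdealSheafData} (hD : LogNCD.IsNCD D (X ↘ Spec (CommRingCat.of k)))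
  {Dl : Fin r → Xl.IdealSheafData} (hDl : ∀ j, (Dl j).comap i = D j) (hDlf : ∀ j, Flat ((Dl j).subschemeι ≫ g))
  {Ω' : X.Modules} {d : OmegaSh.Der (X ↘ Spec (CommRingCat.of k)) Ω'} (hd : OmegaSh.IsUniversal d)
  (Λ : LogNCD.LogMod d D)

include hl hD hDl hDlf hd in
/-- **The geometric data.** -/
theorem exists_data {M M' : X.Modules} (hM : PicF.IsInvertible M) (hM' : PicF.IsInvertible M') :
    ∃ (n : ℕ) (G : Geo p k X Λ.L n) (q : (Fin r → ℕ) → ∀ j, Γ(X, (G.U j).1)) (P : (Fin r → ℕ) → Pole G),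
      IsFam (fun _ : PUnit.{u + 1} => G) ∧ (∀ j, ∃ e : Γ(M, (G.U j).1), IsGen e) ∧
      (∀ j, ∃ e : Γ(M', (G.U j).1), IsGen e) ∧
      (∀ b j, GenOn (∏ l, D l ^ b l) (q b j)) ∧ (∀ b b' j, q (b + b') j = q b j * q b' j) ∧
      (∀ b j, ((P b).x j : G.R) = ores (G.le j) (q b j)) ∧ (∀ b, (∀ l, b l < p) → Cartier (P b)) := by
  have hX : IsIntegral X := Geo.isIntegral_of_smooth (X ↘ Spec (CommRingCat.of k))
  have hc : IsClosedImmersion i := isClosedImmersion hl
  have hs : Surjective i := surjective hl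
  have hsep : X.IsSeparated := Fga.HypSec.isSeparated k X
  have hcs : CompactSpace X := (quasiCompact_iff_compactSpace (X ↘ Spec (CommRingCat.of k))).1 inferInstance
  have hch : CharX X p := charX p k X
  obtain ⟨C, hC⟩ := exists_cov (Λ := Λ) (Dl := Dl) hl (K922.Univ.affUniv hd) hD hDl
    (fun U => (∃ e : Γ(M, U), IsGen e) ∧ ∃ e : Γ(M', U), IsGen e) (fun x => by
      obtain ⟨O, hx, hO⟩ := exists_nhd hM x
      obtain ⟨O', hx', hO'⟩ := exists_nhd hM' x
      exact ⟨O ⊓ O', ⟨hx, hx'⟩, fun U hU => ⟨hO U (hU.trans inf_le_left), hO' U (hU.trans inf_le_right)⟩⟩)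
  have : Nonempty C.V0.U := C.V0.ne
  have : Nontrivial Γ(X, C.V0.U) := inferInstance
  have hn : ∀ j, (C.L j).n = Module.finrank Γ(X, C.V0.U) (Sec Λ.L C.V0.U) := fun j => by
    rw [Module.finrank_eq_card_basis ((C.L j).B.isLocBasis.basis (C.V0_le j)), Fintype.card_fin]
  refine ⟨_, geo C hl hDl hDlf hn, eqn C, pole C hl hDl hDlf hn, ⟨fun c c' _ _ h => absurd rfl h, ?_⟩,
    fun j => (hC j).1, fun j => (hC j).2, fun b j => ?_, fun b b' j => ?_, fun b j => rfl,
    cartier C hl hDl hDlf hn⟩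
  · rw [eq_top_iff, ← C.sup]
    exact iSup_le fun j => le_iSup (fun s : Σ _ : PUnit.{u + 1}, C.ι => (C.W s.2).U) ⟨PUnit.unit, j⟩
  · refine genOn_prod _ fun l => genOn_pow ?_ _
    intro W hW
    exact ⟨(((C.L j).c.isReg_g l).restrict hW).mem_nonZeroDivisors, (C.L j).c.ideal l W hW⟩
  · change ∏ l, (C.L j).c.g l ^ (b l + b' l) = (∏ l, (C.L j).c.g l ^ b l) * ∏ l, (C.L j).c.g l ^ b' l
    rw [← Finset.prod_mul_distrib]
    exact Finset.prod_congr rfl fun l _ => pow_add _ _ _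

end K911.CoreProof

namespace K911.CoreProof

open Groth.Agent Groth.Agent.Dix.IdealModCartier
open Groth.Agent.Sga67.Sec Groth.Agent.Sga67.LocBasis Groth.Agent.Sga67.ExtSheaf
open Groth.Agent.Fdesc.LocGen (IsGen tmul ores)
open K912.Asm K912.Frame K911.Transfer

section Surj

variable {X : Scheme.{u}}

theorem surjective_of_sq {F G F' G' : X.Modules} {f : F ⟶ G} {g : F' ⟶ G'} (a : F ⟶ F') (e : G ≅ G')
    (h : f ≫ e.hom = a ≫ g) {b : ℕ}
    (hf : Function.Surjective (Sheaf.H.map ((SheafOfModules.toSheaf X.ringCatSheaf).map f) b)) :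
    Function.Surjective (Sheaf.H.map ((SheafOfModules.toSheaf X.ringCatSheaf).map g) b) := by
  have h1 := K911.One.surjective_comp_iso f e hf
  have e1 : (SheafOfModules.toSheaf X.ringCatSheaf).map (f ≫ e.hom) =
      (SheafOfModules.toSheaf X.ringCatSheaf).map a ≫ (SheafOfModules.toSheaf X.ringCatSheaf).map g :=
    (congrArg _ h).trans (Functor.map_comp _ _ _)
  intro y
  obtain ⟨x, hx⟩ := h1 y
  refine ⟨Sheaf.H.map ((SheafOfModules.toSheaf X.ringCatSheaf).map a) b x, ?_⟩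
  rw [← Sheaf.H.map_comp_apply, ← hx, e1]

open scoped Groth.Agent.Dcoh.MonCat MonoidalCategory in
theorem surjective_of_tmap {A N N' : X.Modules} (θ : A ≅ Coh.structureModule X) {g : N ⟶ N'} {b : ℕ}
    (h : Function.Surjective (Sheaf.H.map ((SheafOfModules.toSheaf X.ringCatSheaf).map (tmap A g)) b)) :
    Function.Surjective (Sheaf.H.map ((SheafOfModules.toSheaf X.ringCatSheaf).map g) b) := by
  let θ' : A ≅ 𝟙_ X.Modules := θ
  refine surjective_of_sq (θ'.hom ▷ N ≫ (λ_ N).hom) (MonoidalCategory.whiskerRightIso θ' N' ≪≫ λ_ N') ?_ h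
  change A ◁ g ≫ θ'.hom ▷ N' ≫ (λ_ N').hom = (θ'.hom ▷ N ≫ (λ_ N).hom) ≫ g
  rw [MonoidalCategory.whisker_exchange_assoc, MonoidalCategory.leftUnitor_naturality, Category.assoc]

theorem surjective_of_inclTwist {E : X.Modules} {I : X.IdealSheafData} {b : ℕ}
    (h : Function.Surjective (Sheaf.H.map ((SheafOfModules.toSheaf X.ringCatSheaf).map
      (LogNCD.inclTwist E I)) b)) :
    Function.Surjective (Sheaf.H.map ((SheafOfModules.toSheaf X.ringCatSheaf).map
      (KoszTw.tensorMap (𝟙 E) (ClSub.idealModι I))) b) := by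
  refine surjective_of_sq (𝟙 _) (SecTwist.unitorR E).symm ?_ h
  rw [LogNCD.inclTwist, Category.assoc, Iso.symm_hom, Iso.hom_inv_id, Category.comp_id, Category.id_comp]

end Surj

/-- **The core inequality.** -/
theorem coreP : CoreP.{u} := by
  intro p _ k _ _ _ X _ _ _ _ H hH Xl g _ i hl r D hD Dl hDl hDlf Ω' d hd Λ La hLa M M' hM hM' e he hiso m hm
  obtain ⟨θ⟩ := hiso
  obtain ⟨n, G, q, P, hfam, h1, h2, h3, h4, h5, h6⟩ := exists_data hl hD hDl hDlf hd Λ hM hM'
  obtain ⟨T, T', hT⟩ := TwFrames.exists_frames G θ (q e) (h3 e) (P e) (h5 e) h1 h2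
  have hp : p.Prime := Fact.out
  have hcar : Cartier (P e) := h6 e fun l => by have := he l; have := hp.pos; omega
  choose φ hφ using fun a => exists_phi (hLa a)
  have hq : ∀ {N : X.Modules}, PicF.IsInvertible N → ∀ a, Coh.IsCoh (CohB1.tensorMod (La a) N) := by
    intro N hN a
    exact PerfA.CohSerre.isCoh_of_isFinLocFree (isFinLocFree_tensorMod
      (Geo.isFinLocFree_extPow hd hD Λ (hLa a)) (K911.Dual.isFinLocFree_of_isInvertible hN))
  exact main_ineq_fam (C := PUnit.{u + 1}) (J := fun _ => Fin 1) φ hφ hfam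
    (fun t => (PerfectRing.bijective_frobenius (R := k) (p := p)).2 t) (fun _ => hcar) (T := fun _ => T)
    (T' := fun _ => T') (fun _ => hT) (fun a => (hq hM a).1) (fun a => (hq hM' a).1)
    (fun a b => Fga.HodgeSec.finite_HH' k (hq hM' a) b) m hm

/-- **The core surjectivity.** -/
theorem coreS : CoreS.{u} := by
  intro p _ k _ _ _ X _ _ _ _ H hH Xl g _ i hl r D hD Dl hDl hDlf Ω' d hd Λ La hLa M M' hM hM' e he hiso μ hμ m hm
    heq
  obtain ⟨θ⟩ := hiso
  obtain ⟨n, G, q, P, hfam, h1, h2, h3, h4, h5, h6⟩ := exists_data hl hD hDl hDlf hd Λ hM hM'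
  have hp : p.Prime := Fact.out
  have hadd : (e - μ) + μ = e := funext fun l => Nat.sub_add_cancel (hμ l)
  obtain ⟨T, T', T'', hT, hT'', hα⟩ := TwFrames.exists_frames₂ G θ (q e) (h3 e) (q μ) (h3 μ) (P e) (P (e - μ))
    (h5 e) (fun j => by
      rw [h5 e j, h5 (e - μ) j, ← map_mul, ← h4, hadd]) h1 h2
  have hcar : Cartier (P e) := h6 e fun l => by have := he l; have := hp.pos; omega
  have hcar' : Cartier (P (e - μ)) := h6 (e - μ) fun l => by
    have := he l; have := hp.pos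
    change e l - μ l < p
    omega
  choose φ hφ using fun a => exists_phi (hLa a)
  have hq : ∀ {N : X.Modules}, PicF.IsInvertible N → ∀ a, Coh.IsCoh (CohB1.tensorMod (La a) N) := by
    intro N hN a
    exact PerfA.CohSerre.isCoh_of_isFinLocFree (isFinLocFree_tensorMod
      (Geo.isFinLocFree_extPow hd hD Λ (hLa a)) (K911.Dual.isFinLocFree_of_isInvertible hN))
  have hI : PicF.IsInvertible (ClSub.idealMod (∏ j, D j ^ μ j)) :=
    isInvertible_idealMod (K911.DivCls.isEff_prod_pow _ D (fun l => K911.Ncd.isEff_of_isNCD hD l) μ)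
  have hM'' : PicF.IsInvertible (CohB1.tensorMod M' (ClSub.idealMod (∏ j, D j ^ μ j))) :=
    Groth.Agent.Fdesc.LocGen.isInvertible_tensorMod hM' hI
  have h7 := surjective_of_eq_fam (C := PUnit.{u + 1}) (J := fun _ => Fin 1) φ hφ hfam
    (fun t => (PerfectRing.bijective_frobenius (R := k) (p := p)).2 t) (fun _ => hcar) (fun _ => hcar')
    (T := fun _ => T) (T' := fun _ => T') (T'' := fun _ => T'') (fun _ => hT) (fun _ => hT'')
    (LogNCD.inclTwist M' (∏ j, D j ^ μ j)) (fun _ => hα) (fun a => (hq hM a).1) (fun a => (hq hM' a).1)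
    (hq hM'' 0).1 (fun a b => Fga.HodgeSec.finite_HH' k (hq hM' a) b) m hm heq
  obtain ⟨θ₀⟩ := Groth.Agent.Sga67.TensorOps.nonempty_iso_of_isExtPow (Iso.refl Λ.L) (hLa 0)
    (Groth.Agent.Sga67.TensorOps.isExtPow_zero Λ.L)
  exact surjective_of_inclTwist (surjective_of_tmap θ₀ h7)

end K911.CoreProof
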