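import Groth.Agent.DelIll.K904.GeoCover
import Groth.Agent.DelIll.K912.AsmFam
import Groth.Agent.Dix.IdealModCartier

/-!
# The geometric data on an integral scheme with a lifting to `W₂`
-/

set_option autoImplicit false
set_option linter.unusedSectionVars false
universe u
open CategoryTheory CategoryTheory.Limits AlgebraicGeometry Opposite TopologicalSpace

namespace K911.GeoCov

open Groth.Agent Groth.Agent.Dix.IdealModCartier
open Groth.Agent.Sga67.Sec Groth.Agent.Sga67.LocBasis Groth.Agent.Sga67.ExtSheaf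
open Groth.Agent.Fdesc.LocGen (IsGen tmul ores)
open K912.Asm K912.Frame K912.LatCmp K912.Alt
open K904.GeoUp K904.GeoDt K904.GeoCh K904.GeoCover

attribute [local instance] algV modS

variable {p : ℕ} [Fact p.Prime] {k : Type u} [Field k] [CharP k p] [PerfectRing k p]
variable {X : Scheme.{u}} [X.Over (Spec (CommRingCat.of k))]
variable {Xl : Scheme.{u}} {g : Xl ⟶ Spec (CommRingCat.of (FrobAlg.W2 p k))} {i : X ⟶ Xl}
  [Flat g] [IsClosedImmersion i] [Surjective i]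
variable {r : ℕ} {D : Fin r → X.IdealSheafData} {Dl : Fin r → Xl.IdealSheafData}
  {Ω' : X.Modules} {d : OmegaSh.Der (X ↘ Spec (CommRingCat.of k)) Ω'} {Λ : LogNCD.LogMod d D}
  [IsIntegral X] [X.IsSeparated] [CharX X p]
  (C : Cov i Dl Λ) (hl : IsPullback i (X ↘ Spec (CommRingCat.of k)) g (spW p k))
  (hDl : ∀ j, (Dl j).comap i = D j) (hDlf : ∀ j, Flat ((Dl j).subschemeι ≫ g)) {n : ℕ}
  (hn : ∀ j, (C.L j).n = n)

/-- The geometric data. -/
noncomputable def geo : Geo p k X Λ.L n where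
  ι := C.ι
  U j := (C.W j).aO
  nonempty_ι := C.ne
  aff s hs := (C.Us s hs).aff
  V₀ := C.V0.aO
  le := C.V0_le
  inj s hs := resO_injective C.V0 (C.V0_le_Us s hs)
  charP := CharX.out C.V0
  b j κ := (C.L j).B.b (Fin.cast (hn j).symm κ)
  hb j := ((C.L j).B.isLocBasis).reindex (finCongr (hn j).symm)
  D := C.dat hl hDl hDlf
  F := C.F hl hDl hDlf
  hF := C.F_algebraMap hl hDl hDlf
  hFι := C.F_ι hl hDl hDlf
  f_mem s j hj w hw := C.f_mem hl hDl hDlf s ⟨j, hj⟩ hj w hw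
  h_mem s j hj j' hj' w hw := C.h_mem hl hDl hDlf s ⟨j, hj⟩ hj hj' w hw

/-- The equation of `∑ b_l D_l` on the charts. -/
noncomputable def eqn (b : Fin r → ℕ) (j : C.ι) : Γ(X, (C.W j).U) := ∏ l, (C.L j).c.g l ^ b l

theorem isUnit_eqn (b : Fin r → ℕ) (j : C.ι) : IsUnit (resO X (C.V0_le j) (eqn C b j)) := by
  rw [eqn, map_prod, IsUnit.prod_iff]
  intro l _
  rw [map_pow]
  exact (C.isUnit_g j l).pow _

/-- The pole divisor. -/
noncomputable def pole (b : Fin r → ℕ) : Pole (geo C hl hDl hDlf hn) where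
  x j := (isUnit_eqn C b j).unit
  x_mem s j hj := by
    refine (mem_Av k _).2 ⟨C.eqs b ⟨j, hj⟩ hj, ?_⟩
    change resO X _ (resO X _ _) = resO X _ _
    rw [resO_resO]
    rfl
  x_div s j hj j' hj' := by
    obtain ⟨c, hc⟩ := C.eqs_dvd b ⟨j, hj⟩ hj' hj
    refine (mem_Av k _).2 ⟨c, ?_⟩
    have h1 : resO X (C.V0_le_Us s ⟨j, hj⟩) (C.eqs b ⟨j, hj⟩ hj) = resO X (C.V0_le j) (eqn C b j) := by
      rw [Cov.eqs, resO_resO]; rfl
    have h2 : resO X (C.V0_le_Us s ⟨j, hj⟩) (C.eqs b ⟨j, hj⟩ hj') = resO X (C.V0_le j') (eqn C b j') := by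
      rw [Cov.eqs, resO_resO]; rfl
    have h3 := congrArg (resO X (C.V0_le_Us s ⟨j, hj⟩)) hc
    rw [map_mul, h1, h2] at h3
    have h4 : resO X (C.V0_le j) (eqn C b j) * ((isUnit_eqn C b j').unit⁻¹).1 =
        resO X (C.V0_le_Us s ⟨j, hj⟩) c := by
      rw [h3, mul_right_comm, IsUnit.mul_val_inv, one_mul]
    exact h4.symm

theorem pole_x (b : Fin r → ℕ) (j : C.ι) :
    ((pole C hl hDl hDlf hn b).x j).1 = resO X (C.V0_le j) (eqn C b j) := rfl

theorem isP (b : Fin r → ℕ) (s : Set C.ι) (j : C.ι) (hj : j ∈ s) :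
    C.IsP hl b ⟨j, hj⟩ ((pole C hl hDl hDlf hn b).Ps s j) := by
  refine ⟨j, hj, fun y => ?_⟩
  have h1 : resO X (C.V0_le_Us s ⟨j, hj⟩) (C.eqs b ⟨j, hj⟩ hj) = resO X (C.V0_le j) (eqn C b j) := by
    rw [Cov.eqs, resO_resO]; rfl
  rw [h1]
  exact Iff.rfl

/-- The local Cartier isomorphism. -/
theorem cartier (b : Fin r → ℕ) (hb : ∀ l, b l < p) : Cartier (pole C hl hDl hDlf hn b) where
  d_mem s j hj a y hy := (isP C hl hDl hDlf hn b s j hj).d_mem (hDl := hDl) (hDlf := hDlf) a y hy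
  surj s j hj a _ y hy hdy := (isP C hl hDl hDlf hn b s j hj).surj (hDl := hDl) (hDlf := hDlf) hb hj a y hy hdy
  inj s j hj a _ g hg z hz h := (isP C hl hDl hDlf hn b s j hj).inj (hDl := hDl) (hDlf := hDlf) hb hj a g hg z hz h

end K911.GeoCov
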