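import Groth.Agent.DelIll.K911.CoreProof
import Groth.Agent.S5005

/-!
# The inequality of Deligne-Illusie for irreducible schemes, and the vanishing theorem

No ample sheaf is needed for the inequality.
-/

set_option autoImplicit false
universe u
open CategoryTheory CategoryTheory.Limits AlgebraicGeometry Opposite TopologicalSpace

namespace K911.IrrIneq

open Groth.Agent Groth.Agent.Dix.IdealModCartier
open Groth.Agent.Sga67.Sec Groth.Agent.Sga67.LocBasis Groth.Agent.Sga67.ExtSheaf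
open Groth.Agent.Fdesc.LocGen (IsGen tmul ores)
open K912.Asm K912.Frame K911.Transfer K911.CoreProof
open Groth.Agent.Fga.PicMon

section triv

variable {X S : Scheme.{u}} {f : X ⟶ S} {Ω' : X.Modules}

/-- The log module of the empty divisor. -/
noncomputable def triv (d : OmegaSh.Der f Ω') (D : Fin 0 → X.IdealSheafData) : LogNCD.LogMod d D where
  L := Ω'
  ι := 𝟙 _
  res i := i.elim0
  mono := inferInstance
  res_ι i := i.elim0
  rule U g _ := ⟨fun x hx => by simpa using hx, fun i => i.elim0, fun i => i.elim0, by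
    rw [eq_top_iff]
    intro x _
    exact Submodule.subset_span (Or.inl ⟨x, rfl⟩), fun i => i.elim0, fun i => i.elim0⟩

theorem isNCD_empty (f : X ⟶ S) (D : Fin 0 → X.IdealSheafData) : LogNCD.IsNCD D f :=
  fun _ ⟨i⟩ => i.1.elim0

end triv

/-- The core inequality, without ample sheaf. -/
theorem core (p : ℕ) [Fact p.Prime] (k : Type u) [Field k] [CharP k p] [PerfectRing k p]
    (X : Scheme.{u}) [X.Over (Spec (CommRingCat.of k))] [IsProper (X ↘ Spec (CommRingCat.of k))]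
    [Smooth (X ↘ Spec (CommRingCat.of k))] [IrreducibleSpace X]
    (Xl : Scheme.{u}) (g : Xl ⟶ Spec (CommRingCat.of (FrobAlg.W2 p k))) [Flat g] (i : X ⟶ Xl)
    (hl : IsPullback i (X ↘ Spec (CommRingCat.of k)) g (Spec.map (CommRingCat.ofHom (FrobAlg.res p k))))
    {r : ℕ} (D : Fin r → X.IdealSheafData) (hD : LogNCD.IsNCD D (X ↘ Spec (CommRingCat.of k)))
    (Dl : Fin r → Xl.IdealSheafData) (hDl : ∀ j, (Dl j).comap i = D j) (hDlf : ∀ j, Flat ((Dl j).subschemeι ≫ g))
    {Ω' : X.Modules} (d : OmegaSh.Der (X ↘ Spec (CommRingCat.of k)) Ω') (hd : OmegaSh.IsUniversal d)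
    (Λ : LogNCD.LogMod d D) (La : ℕ → X.Modules) (hLa : ∀ a, ExtPow.IsExtPow a Λ.L (La a))
    (M M' : X.Modules) (hM : PicF.IsInvertible M) (hM' : PicF.IsInvertible M')
    (e : Fin r → ℕ) (he : ∀ j, e j ≤ p - 1)
    (hiso : Nonempty (CohB1.tensorMod M' (ClSub.idealMod (∏ j, D j ^ e j)) ≅ CohB1.tensorPow M p))
    (m : ℕ) (hm : m < p) :
    ∑ a ∈ Finset.range (m + 1), Module.finrank k (Coh.HH X (CohB1.tensorMod (La a) M) (m - a)) ≤
      ∑ a ∈ Finset.range (m + 1), Module.finrank k (Coh.HH X (CohB1.tensorMod (La a) M') (m - a)) := by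
  obtain ⟨θ⟩ := hiso
  obtain ⟨n, G, q, P, hfam, h1, h2, h3, h4, h5, h6⟩ := exists_data hl hD hDl hDlf hd Λ hM hM'
  obtain ⟨T, T', hT⟩ := K911.TwFrames.exists_frames G θ (q e) (h3 e) (P e) (h5 e) h1 h2
  have hp : p.Prime := Fact.out
  have hcar : Cartier (P e) := h6 e fun l => by have := he l; have := hp.pos; omega
  choose φ hφ using fun a => exists_phi (hLa a)
  have hq : ∀ {N : X.Modules}, PicF.IsInvertible N → ∀ a, Coh.IsCoh (CohB1.tensorMod (La a) N) := by
    intro N hN a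
    exact PerfA.CohSerre.isCoh_of_isFinLocFree (isFinLocFree_tensorMod
      (Geo.isFinLocFree_extPow hd hD Λ (hLa a)) (K911.Dual.isFinLocFree_of_isInvertible hN))
  exact main_ineq_fam (C := PUnit.{u + 1}) (J := fun _ => Fin 1) φ hφ hfam
    (fun t => (PerfectRing.bijective_frobenius (R := k) (p := p)).2 t) (fun _ => hcar) (T := fun _ => T)
    (T' := fun _ => T') (fun _ => hT) (fun a => (hq hM a).1) (fun a => (hq hM' a).1)
    (fun a b => Fga.HodgeSec.finite_HH' k (hq hM' a) b) m hm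

/-- The inequality `h(M) ≤ h(M^p)`. -/
theorem ineq (p : ℕ) [Fact p.Prime] (k : Type u) [Field k] [CharP k p] [PerfectRing k p]
    (X : Scheme.{u}) [X.Over (Spec (CommRingCat.of k))] [IsProper (X ↘ Spec (CommRingCat.of k))]
    [Smooth (X ↘ Spec (CommRingCat.of k))] [IrreducibleSpace X]
    (Xl : Scheme.{u}) (g : Xl ⟶ Spec (CommRingCat.of (FrobAlg.W2 p k))) [Flat g] (i : X ⟶ Xl)
    (hl : IsPullback i (X ↘ Spec (CommRingCat.of k)) g (Spec.map (CommRingCat.ofHom (FrobAlg.res p k))))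
    {r : ℕ} (D : Fin r → X.IdealSheafData) (hD : LogNCD.IsNCD D (X ↘ Spec (CommRingCat.of k)))
    (Dl : Fin r → Xl.IdealSheafData) (hDl : ∀ j, (Dl j).comap i = D j) (hDlf : ∀ j, Flat ((Dl j).subschemeι ≫ g))
    {Ω' : X.Modules} (d : OmegaSh.Der (X ↘ Spec (CommRingCat.of k)) Ω') (hd : OmegaSh.IsUniversal d)
    (Λ : LogNCD.LogMod d D) (La : ℕ → X.Modules) (hLa : ∀ a, ExtPow.IsExtPow a Λ.L (La a))
    (M : X.Modules) (hM : PicF.IsInvertible M) (m : ℕ) (hm : m < p) :
    ∑ a ∈ Finset.range (m + 1), Module.finrank k (Coh.HH X (CohB1.tensorMod (La a) M) (m - a)) ≤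
      ∑ a ∈ Finset.range (m + 1), Module.finrank k (Coh.HH X (CohB1.tensorMod (La a) (CohB1.tensorPow M p)) (m - a)) := by
  refine core p k X Xl g i hl D hD Dl hDl hDlf d hd Λ La hLa M _ hM
    (Groth.Agent.Fdesc.LocGen.isInvertible_tensorPow hM p) 0 (fun _ => Nat.zero_le _) ?_ m hm
  rw [← mc_eq_iff, mc_tensor]
  have h1 : (∏ j, D j ^ (0 : Fin r → ℕ) j) = 1 := Finset.prod_eq_one fun j _ => pow_zero _
  rw [h1, K911.DivCls.mc_idealMod_one, mul_one]

/-- The inequality without boundary divisor (S16740 for irreducible schemes). -/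
theorem ineq0 (p : ℕ) [Fact p.Prime] (k : Type u) [Field k] [CharP k p] [PerfectRing k p]
    (X : Scheme.{u}) [X.Over (Spec (CommRingCat.of k))] [IsProper (X ↘ Spec (CommRingCat.of k))]
    [Smooth (X ↘ Spec (CommRingCat.of k))] [IrreducibleSpace X]
    (Xl : Scheme.{u}) (g : Xl ⟶ Spec (CommRingCat.of (FrobAlg.W2 p k))) [Flat g] (i : X ⟶ Xl)
    (hl : IsPullback i (X ↘ Spec (CommRingCat.of k)) g (Spec.map (CommRingCat.ofHom (FrobAlg.res p k))))
    (Om : ℕ → X.Modules) (hOm : ∀ a, ExtPow.IsExtPow a (Omega.sheaf (X ↘ Spec (CommRingCat.of k))) (Om a))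
    (M : X.Modules) (hM : PicF.IsInvertible M) (m : ℕ) (hm : m < p) :
    ∑ a ∈ Finset.range (m + 1), Module.finrank k (Coh.HH X (CohB1.tensorMod (Om a) M) (m - a)) ≤
      ∑ a ∈ Finset.range (m + 1), Module.finrank k (Coh.HH X (CohB1.tensorMod (Om a) (CohB1.tensorPow M p)) (m - a)) :=
  ineq p k X Xl g i hl (Fin.elim0 : Fin 0 → X.IdealSheafData) (isNCD_empty _ _)
    (Fin.elim0 : Fin 0 → Xl.IdealSheafData) (fun j => j.elim0) (fun j => j.elim0) _
    (Groth.Agent.S5005.result (X ↘ Spec (CommRingCat.of k)))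
    (triv _ _) Om hOm M hM m hm

end K911.IrrIneq
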