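import Groth.Agent.Dix.IdealModCartier
import Groth.Agent.Sga67.LocBasis
import Groth.Prelude.Def_LogNCD2

/-!
# Local generators of `M` and `M'` with `M'(-D) ≅ M^p`
-/

set_option autoImplicit false
universe u
open CategoryTheory CategoryTheory.Limits AlgebraicGeometry

namespace K911.TwSec

open Groth.Agent Groth.Agent.Fdesc.LocGen Groth.Agent.Dix.IdealModCartier

variable {X : Scheme.{u}} {M M' : X.Modules} {I : X.IdealSheafData} {p : ℕ}
  (θ : CohB1.tensorMod M' (ClSub.idealMod I) ≅ CohB1.tensorPow M p)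

/-- An adjusted generator of `M'`. -/
theorem exists_gen {U : X.affineOpens} {e : Γ(M, U.1)} (he : IsGen e) {x : Γ(X, U.1)} (hx : GenOn I x)
    {e₀ : Γ(M', U.1)} (he₀ : IsGen e₀) :
    ∃ (e' : Γ(M', U.1)) (n : Γ(ClSub.idealMod I, U.1)), IsGen e' ∧ val I n = x ∧
      θ.hom.app U.1 (tmul e' n) = Fdesc.LocGen.pow e p := by
  obtain ⟨n, hn⟩ := exists_val_eq I U (a := x) (by
    have := (hx U le_rfl).2
    rw [ores_refl] at this
    rw [this]; exact Ideal.mem_span_singleton_self _)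
  have gn : IsGen n := isGen_of_genOn (hn.symm ▸ hx)
  have h1 : IsGen (θ.hom.app U.1 (tmul e₀ n)) := (he₀.tmul gn).app θ.hom
  obtain ⟨a, ha, h2⟩ := h1.exists_unit (he.pow p)
  refine ⟨a • e₀, n, he₀.unit_smul ha, hn, ?_⟩
  rw [smul_tmul, Scheme.Modules.Hom.app_smul, h2]

/-- The coefficients. -/
theorem coef_eq {U U₀ V : X.Opens} (h : V ≤ U) (h₀ : V ≤ U₀) {e : Γ(M, U)} {e₀ : Γ(M, U₀)} (he₀ : IsGen e₀)
    {e' : Γ(M', U)} {e₀' : Γ(M', U₀)} {n : Γ(ClSub.idealMod I, U)} {n₀ : Γ(ClSub.idealMod I, U₀)}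
    (hθ : θ.hom.app U (tmul e' n) = Fdesc.LocGen.pow e p) (hθ₀ : θ.hom.app U₀ (tmul e₀' n₀) = Fdesc.LocGen.pow e₀ p)
    {a b : Γ(X, V)} (ha : res M h e = a • res M h₀ e₀) (hb : res M' h e' = b • res M' h₀ e₀')
    {x x₀ : (Γ(X, V))ˣ} (hx : ores h (val I n) = x) (hx₀ : ores h₀ (val I n₀) = x₀) :
    b * (x₀⁻¹ : (Γ(X, V))ˣ) = (x⁻¹ : (Γ(X, V))ˣ) * a ^ p := by
  have h1 : res _ h n = ((x : Γ(X, V)) * (x₀⁻¹ : (Γ(X, V))ˣ)) • res _ h₀ n₀ := by
    apply val_injective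
    rw [val_smul, val_res, val_res, hx, hx₀, mul_assoc, Units.inv_mul, mul_one]
  have h2 : θ.hom.app V (tmul (res _ h e') (res _ h n)) = Fdesc.LocGen.pow (res _ h e) p := by
    rw [← res_tmul, app_res, hθ, res_pow]
  have h3 : θ.hom.app V (tmul (res _ h₀ e₀') (res _ h₀ n₀)) = Fdesc.LocGen.pow (res _ h₀ e₀) p := by
    rw [← res_tmul, app_res, hθ₀, res_pow]
  rw [h1, hb, ha, smul_tmul, tmul_smul, smul_smul, Scheme.Modules.Hom.app_smul, h3, smul_pow] at h2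
  have h4 := ((he₀.res h₀).pow p).ext h2
  rw [← h4, mul_comm ((x⁻¹ : (Γ(X, V))ˣ) : Γ(X, V)), mul_assoc b, mul_right_comm (x : Γ(X, V)), Units.mul_inv, one_mul]

/-- The image of a section of `E ⊗ I` in `E`. -/
theorem inclTwist_tmul (E : X.Modules) (J : X.IdealSheafData) {U : X.Opens} (m : Γ(E, U))
    (n : Γ(ClSub.idealMod J, U)) : (LogNCD.inclTwist E J).app U (tmul m n) = val J n • m := by
  have h1 := KoszTw.tensorMap_tmul (𝟙 E) (ClSub.idealModι J) U m n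
  have h2 := SecTwist.unitorR_tmul E U m (val J n)
  change (SecTwist.unitorR E).hom.app U ((KoszTw.tensorMap (𝟙 E) (ClSub.idealModι J)).app U (tmul m n)) = _
  exact (congrArg ((SecTwist.unitorR E).hom.app U) h1).trans h2

end K911.TwSec
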